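import Groth.Agent.H30.CechHyper.Model
import Groth.Agent.H30.DHom.Retract
import Mathlib.Algebra.Homology.DerivedCategory.DerivabilityStructureInjectives

/-!
# The Čech filtration of hypercohomology
-/

set_option autoImplicit false
set_option linter.style.haveILetI false
set_option linter.unusedVariables false

universe u

open CategoryTheory Limits Opposite TopologicalSpace HomologicalComplex
open Groth.Agent.Lib.Cech Groth.Agent.Lib.Cech.Complex

namespace Groth.Agent.H30.CechHyper

variable {X : TopCat.{u}}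

section Pre

variable (L : CochainComplex ((Opens X)ᵒᵖ ⥤ AddCommGrpCat.{u}) ℤ) (m m' : ℤ) (hm : m + 1 = m')
include hm

lemma exists_cycle_eq (V : (Opens X)ᵒᵖ) (x : ((L.d m m').app V).hom.ker) :
    ∃ z : (L.cycles m).obj V, (L.iCycles m).app V z = x.1 := by
  have hE : (ShortComplex.mk (L.iCycles m) (L.d m m') (L.iCycles_d m m')).Exact :=
    ShortComplex.exact_of_f_is_kernel _ (L.cyclesIsKernel m m' (by simp [hm]))
  exact (ShortComplex.ab_exact_iff _).1
    (hE.map ((evaluation (Opens X)ᵒᵖ AddCommGrpCat.{u}).obj V)) x.1 x.2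

omit hm in
lemma iCycles_app_injective (V : (Opens X)ᵒᵖ) : Function.Injective ((L.iCycles m).app V) :=
  haveI : Mono ((L.iCycles m).app V) :=
    ((evaluation (Opens X)ᵒᵖ AddCommGrpCat.{u}).obj V).map_mono (L.iCycles m)
  (AddCommGrpCat.mono_iff_injective _).1 inferInstance

/-- The class of a cocycle of sections. -/
noncomputable def preCls (V : (Opens X)ᵒᵖ) :
    ((L.d m m').app V).hom.ker →+ (L.homology m).obj V :=
  ((L.homologyπ m).app V).hom.comp
    (AddMonoidHom.mk' (fun x => (exists_cycle_eq L m m' hm V x).choose) fun x y =>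
      iCycles_app_injective L m V ((exists_cycle_eq L m m' hm V (x + y)).choose_spec.trans
        ((congrArg₂ (· + ·) (exists_cycle_eq L m m' hm V x).choose_spec.symm
          (exists_cycle_eq L m m' hm V y).choose_spec.symm).trans (map_add _ _ _).symm)))

lemma preCls_eq (V : (Opens X)ᵒᵖ) (x : ((L.d m m').app V).hom.ker) (z : (L.cycles m).obj V)
    (hz : (L.iCycles m).app V z = x.1) :
    preCls L m m' hm V x = (L.homologyπ m).app V z :=
  congrArg ((L.homologyπ m).app V)
    (iCycles_app_injective L m V ((exists_cycle_eq L m m' hm V x).choose_spec.trans hz.symm))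

lemma preCls_surj (V : (Opens X)ᵒᵖ) : Function.Surjective (preCls L m m' hm V) := by
  intro y
  haveI : Epi ((L.homologyπ m).app V) :=
    ((evaluation (Opens X)ᵒᵖ AddCommGrpCat.{u}).obj V).map_epi (L.homologyπ m)
  obtain ⟨z, rfl⟩ := (AddCommGrpCat.epi_iff_surjective _).1 this y
  refine ⟨⟨(L.iCycles m).app V z, ?_⟩, preCls_eq L m m' hm V _ z rfl⟩
  change ((L.iCycles m ≫ L.d m m').app V) z = 0
  rw [L.iCycles_d]
  rfl

lemma preCls_eq_zero_iff (m₀ : ℤ) (h₀ : m₀ + 1 = m) (V : (Opens X)ᵒᵖ)
    (x : ((L.d m m').app V).hom.ker) :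
    preCls L m m' hm V x = 0 ↔ ∃ y, (L.d m₀ m).app V y = x.1 := by
  obtain ⟨z, hz⟩ := exists_cycle_eq L m m' hm V x
  rw [preCls_eq L m m' hm V x z hz]
  have hto : ∀ y, (L.iCycles m).app V ((L.toCycles m₀ m).app V y) = (L.d m₀ m).app V y := fun y =>
    ConcreteCategory.congr_hom (congrArg (fun φ => φ.app V) (L.toCycles_i m₀ m)) y
  constructor
  · intro h
    have hE : (ShortComplex.mk (L.toCycles m₀ m) (L.homologyπ m)
        (L.toCycles_comp_homologyπ _ _)).Exact :=
      ShortComplex.exact_of_g_is_cokernel _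
        (L.homologyIsCokernel m₀ m ((ComplexShape.up ℤ).prev_eq' h₀))
    obtain ⟨y, hy⟩ := (ShortComplex.ab_exact_iff _).1
      (hE.map ((evaluation (Opens X)ᵒᵖ AddCommGrpCat.{u}).obj V)) z h
    exact ⟨y, (hto y).symm.trans ((congrArg _ hy).trans hz)⟩
  · rintro ⟨y, hy⟩
    rw [← iCycles_app_injective L m V ((hto y).trans (hy.trans hz.symm))]
    exact ConcreteCategory.congr_hom (congrArg (fun φ => φ.app V) (L.toCycles_comp_homologyπ m₀ m)) y

lemma preCls_res {V W : (Opens X)ᵒᵖ} (i : V ⟶ W) (x : ((L.d m m').app V).hom.ker)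
    (y : ((L.d m m').app W).hom.ker) (h : (L.X m).map i x.1 = y.1) :
    (L.homology m).map i (preCls L m m' hm V x) = preCls L m m' hm W y := by
  obtain ⟨z, hz⟩ := exists_cycle_eq L m m' hm V x
  rw [preCls_eq L m m' hm V x z hz, preCls_eq L m m' hm W y ((L.cycles m).map i z) (by
    rw [NatTrans.naturality_apply, hz, h])]
  exact (NatTrans.naturality_apply (L.homologyπ m) i z).symm

end Pre

/-- The hypercohomology presheaf of a K-injective complex. -/
noncomputable def hduIso [HasDerivedCategory.{u} (CohTop.Ab X)]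
    {K I : CochainComplex (CohTop.Ab X) ℤ} [I.IsKInjective] (g : K ⟶ I) [QuasiIso g] (m : ℤ) :
    (DHom.secCx I).homology m ≅ CohCx.HDUPresheaf (DerivedCategory.Q.obj K) m :=
  ((CochainComplex.ShiftSequence.shiftIso _ m 0 m (add_zero m)).app (DHom.secCx I)).symm ≪≫
    (HomologicalComplex.homologyFunctor _ _ 0).mapIso
      ((((sheafToPresheaf (Opens.grothendieckTopology X) AddCommGrpCat.{u}).mapHomologicalComplex
        (ComplexShape.up ℤ)).commShiftIso m).app I).symm ≪≫
    DHom.iso (I⟦m⟧) ≪≫ Functor.isoWhiskerLeft _ (preadditiveYoneda.mapIso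
      ((DerivedCategory.Q.commShiftIso m).app I ≪≫
        (shiftFunctor _ m).mapIso (asIso (DerivedCategory.Q.map g)).symm))

section Setup

variable [HasDerivedCategory.{u} (CohTop.Ab X)] {ι : Type u} (U : ι → Opens X) (hU : iSup U = ⊤)
  {K I : CochainComplex (CohTop.Ab X) ℤ} [I.IsKInjective] (g : K ⟶ I) [QuasiIso g] (a : ℤ)
  [hI : I.IsStrictlyGE a] (hinj : ∀ n, Injective (I.X n))

/-- The model of a complex of injectives. -/
noncomputable def model : Model X U where
  cov := hU
  P q := I.X (a + q)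
  d q := I.d (a + q) (a + (q + 1 : ℕ))
  dd q := I.d_comp_d _ _ _
  exact q p := haveI := hinj (a + q); Acyclic.exactSucc_of_injective U _ p
  HP q := CohCx.HDUPresheaf (DerivedCategory.Q.obj K) (a + q)
  cls q V := ((hduIso g (a + q)).hom.app V).hom.comp
    (preCls (DHom.secCx I) (a + q) (a + (q + 1 : ℕ)) (by omega) V)
  cls_surj q V :=
    ((ConcreteCategory.isIso_iff_bijective ((hduIso g (a + q)).hom.app V)).1 inferInstance).2.comp
      (preCls_surj _ _ _ _ V)
  cls_zero V x hx := by
    have h := ((ConcreteCategory.isIso_iff_bijective ((hduIso g (a + (0 : ℕ))).hom.app V)).1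
      inferInstance).1 (hx.trans (map_zero _).symm)
    obtain ⟨y, hy⟩ := (preCls_eq_zero_iff (DHom.secCx I) _ _ _ (a - 1) (by omega) V x).1 h
    have hz : IsZero ((DHom.secCx I).X (a - 1)) :=
      (sheafToPresheaf _ _).map_isZero (I.isZero_of_isStrictlyGE a (a - 1) (by omega))
    refine Subtype.ext (hy.symm.trans ?_)
    exact (congrArg (fun φ => φ.app V y) (hz.eq_of_src ((DHom.secCx I).d (a - 1) (a + (0 : ℕ))) 0))
  cls_succ q V x := by
    refine Iff.trans ⟨fun hx => ((ConcreteCategory.isIso_iff_bijective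
        ((hduIso g (a + (q + 1 : ℕ))).hom.app V)).1 inferInstance).1 (hx.trans (map_zero _).symm),
      fun hx => (congrArg ((hduIso g (a + (q + 1 : ℕ))).hom.app V) hx).trans (map_zero _)⟩
      (preCls_eq_zero_iff (DHom.secCx I) _ _ _ (a + q) (by omega) V x)
  cls_res q V W i x y h :=
    (NatTrans.naturality_apply (hduIso g (a + q)).hom i _).symm.trans
      (congrArg ((hduIso g (a + q)).hom.app W) (preCls_res (DHom.secCx I) (a + q) (a + (q + 1 : ℕ)) (by omega) i x y h))

end Setup

/-- The filtration of hypercohomology by Čech degree. -/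
theorem exists_filtration [HasDerivedCategory.{u} (CohTop.Ab X)] {ι : Type u} (U : ι → Opens X)
    (hcov : iSup U = ⊤) (K : CochainComplex (CohTop.Ab X) ℤ) (a : ℤ)
    (ha : ∀ i : ℤ, i < a → IsZero (K.X i)) (n : ℤ) :
    ∃ (N : ℕ) (G : ℕ → Submodule ℤ (CohCx.HDU (DerivedCategory.Q.obj K) n (⊤ : Opens X))),
      Antitone G ∧ G 0 = ⊤ ∧ G N = ⊥ ∧
      G 1 = ⨅ i, AddSubgroup.toIntSubmodule
        (CohCx.HDUres (DerivedCategory.Q.obj K) n (homOfLE le_top : U i ⟶ (⊤ : Opens X))).ker ∧
      ∀ p : ℕ, HTor.IsSubquotient ℤ (HTor.grDesc G p)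
        (CohB1.cechHTop U (CohCx.HDUPresheaf (DerivedCategory.Q.obj K) (n - p)) p) := by
  haveI : K.IsStrictlyGE a := (CochainComplex.isStrictlyGE_iff K a).2 ha
  obtain ⟨I, g, hg, hinj, hI⟩ := CochainComplex.Plus.modelCategoryQuillen.exists_quasiIso_injective K a
  haveI := hI
  haveI := hg
  haveI : ∀ n, Injective (I.X n) := hinj
  haveI := CochainComplex.isKInjective_of_injective I a
  have triv : ∀ (A T : Type u) [AddCommGroup A] [Module ℤ A] [AddCommGroup T],
      Subsingleton A → HTor.IsSubquotient ℤ A T := fun A T _ _ _ hA => by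
    refine ⟨⊥, ⊥, le_rfl, ⟨AddEquiv.toIntLinearEquiv
      { toFun := fun _ => 0, invFun := fun _ => 0, left_inv := fun _ => Subsingleton.elim _ _
        right_inv := fun y => ?_, map_add' := fun _ _ => (add_zero 0).symm }⟩⟩
    obtain ⟨y, rfl⟩ := Submodule.mkQ_surjective _ y
    exact ((Submodule.Quotient.mk_eq_zero _).2 (show y ∈ Submodule.comap (⊥ : Submodule ℤ T).subtype ⊥ from y.2)).symm
  by_cases hn : n < a
  · haveI : Subsingleton (CohCx.HDU (DerivedCategory.Q.obj K) n (⊤ : Opens X)) := by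
      have hz : IsZero ((DHom.secCx I).homology n) := by
        refine (HomologicalComplex.exactAt_iff_isZero_homology _ _).1 ?_
        rw [HomologicalComplex.exactAt_iff]
        exact ShortComplex.exact_of_isZero_X₂ _
          ((sheafToPresheaf _ _).map_isZero (I.isZero_of_isStrictlyGE a n hn))
      exact AddCommGrpCat.subsingleton_of_isZero
        (IsZero.of_iso (hz.obj (op ⊤)) ((hduIso g n).app (op ⊤)).symm)
    refine ⟨0, fun _ => ⊤, fun _ _ _ => le_rfl, rfl, Subsingleton.elim _ _, Subsingleton.elim _ _,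
      fun p => triv _ _ ?_⟩
    infer_instance
  · obtain ⟨k, rfl⟩ : ∃ k : ℕ, n = a + k := ⟨(n - a).toNat, by omega⟩
    let M := model U hcov g a hinj
    refine ⟨k + 1, fun p => (M.G k p).toIntSubmodule, fun i j hij => M.G_anti k hij,
      (congrArg AddSubgroup.toIntSubmodule (M.G_zero k)).trans (map_top _),
      (congrArg AddSubgroup.toIntSubmodule (M.G_top k)).trans (map_bot _), ?_, fun p => ?_⟩
    · refine (congrArg AddSubgroup.toIntSubmodule (M.G_one k)).trans ?_
      exact OrderIso.map_iInf _ _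
    · by_cases hp : p ≤ k
      · obtain ⟨q, rfl⟩ : ∃ q, k = p + q := ⟨k - p, by omega⟩
        rw [show a + ((p + q : ℕ) : ℤ) - p = a + (q : ℤ) by push_cast; ring]
        exact M.isSubquotient q p rfl
      · refine triv _ _ ?_
        have h0 : M.G k p = ⊥ := eq_bot_iff.2 ((M.G_anti k (by omega : k + 1 ≤ p)).trans (M.G_top k).le)
        haveI : Subsingleton (M.G k p).toIntSubmodule := by
          rw [h0]
          exact ⟨fun x y => Subtype.ext ((x.2 : x.1 = 0).trans (y.2 : y.1 = 0).symm)⟩
        exact ⟨fun x y => by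
          obtain ⟨x, rfl⟩ := Submodule.mkQ_surjective _ x
          obtain ⟨y, rfl⟩ := Submodule.mkQ_surjective _ y
          exact congrArg _ (Subsingleton.elim (α := (M.G k p).toIntSubmodule) x y)⟩

end Groth.Agent.H30.CechHyper
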