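import Groth.Agent.H30.E1.Bicomplex
import Groth.Agent.Lib.Cech.Acyclic
import Groth.Agent.Lib.Cech.Compare
import Groth.Prelude.Def_HTor
import Groth.Prelude.Def_CohB1

/-!
# The filtration of the cohomology of the sections of a complex by Čech degree

`P 0 → P 1 → ⋯` is a complex of sheaves with exact Čech complexes for the cover `U`, `HP q` presheaves
of its cohomology (`cls`).
-/

set_option autoImplicit false
set_option linter.style.haveILetI false
set_option linter.unusedVariables false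

universe u

open CategoryTheory Limits Opposite TopologicalSpace
open Groth.Agent.Lib.Cech Groth.Agent.Lib.Cech.Complex Groth.Agent.H30.E1

namespace Groth.Agent.H30.CechHyper

/-- The data. -/
structure Model (X : TopCat.{u}) {ι : Type u} (U : ι → Opens X) where
  cov : iSup U = ⊤
  P : ℕ → CohTop.Ab X
  d : ∀ q, P q ⟶ P (q + 1)
  dd : ∀ q, d q ≫ d (q + 1) = 0
  exact : ∀ q p, ExactSucc U (P q).obj p
  HP : ℕ → (Opens X)ᵒᵖ ⥤ AddCommGrpCat.{u}
  cls : ∀ q V, ((d q).hom.app V).hom.ker →+ (HP q).obj V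
  cls_surj : ∀ q V, Function.Surjective (cls q V)
  cls_zero : ∀ V x, cls 0 V x = 0 → x = 0
  cls_succ : ∀ q V x, cls (q + 1) V x = 0 ↔ ∃ y, (d q).hom.app V y = x.1
  cls_res : ∀ q V W (i : V ⟶ W) x y, (P q).obj.map i x.1 = y.1 →
    (HP q).map i (cls q V x) = cls q W y

namespace Model


variable {X : TopCat.{u}} {ι : Type u} {U : ι → Opens X} (M : Model X U)

lemma dd_app (q : ℕ) (V) (x : (M.P q).obj.obj V) :
    (M.d (q + 1)).hom.app V ((M.d q).hom.app V x) = 0 := by
  have := ConcreteCategory.congr_hom (congrArg (fun φ => φ.hom.app V) (M.dd q)) x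
  exact this

/-- The terms of the augmented Čech bicomplex. -/
abbrev T : ℕ → ℕ → AddCommGrpCat.{u}
  | 0, q => (M.P q).obj.obj (op ⊤)
  | p + 1, q => AddCommGrpCat.of (Cochain U (M.P q).obj p)

/-- The augmented Čech bicomplex. -/
noncomputable abbrev D : Bicx.{u} where
  X := M.T
  h p q := match p with
    | 0 => Sections.aug U (M.P q).obj fun _ => le_top
    | p + 1 => dC U (M.P q).obj p
  v p q := match p with
    | 0 => ((M.d q).hom.app (op ⊤)).hom
    | p + 1 => Complex.map (M.d q).hom p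
  hh p q x := match p with
    | 0 => Sections.dC_aug U (M.P q).obj _ x
    | p + 1 => dC_dC U (M.P q).obj p x
  vv p q x := match p with
    | 0 => M.dd_app q _ x
    | p + 1 => funext fun i => M.dd_app q _ (x i)
  comm p q x := match p with
    | 0 => funext fun i => (res_naturality (M.d q).hom _ x).symm
    | p + 1 => (map_dC (M.d q).hom p x).symm

lemma rowsAcyclic : Bicx.RowsAcyclic M.D where
  zero q x hx := Sections.aug_injective U (M.P q) M.cov (hx.trans (map_zero _).symm)
  succ p q x hx := match p with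
    | 0 => Sections.exists_aug_eq U (M.P q) M.cov x hx
    | p + 1 => M.exact q p x hx

/-- Cocycles of sections. -/
abbrev Z (n : ℕ) : AddSubgroup (M.D.X 0 n) := ((M.d n).hom.app (op ⊤)).hom.ker

/-- The classes of global cocycles. -/
abbrev cl (n : ℕ) : M.Z n →+ (M.HP n).obj (op ⊤) := M.cls n (op ⊤)

/-- Cochains of total degree `n` whose differential has no components below column `p + 1`. -/
noncomputable def E (n p : ℕ) : AddSubgroup M.D.G :=
  M.D.W n ⊓ (M.D.Fil (p + 1)).comap M.D.tot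

lemma mem_E {n p : ℕ} {e : M.D.G} :
    e ∈ M.E n p ↔ e ∈ M.D.W n ∧ M.D.tot e ∈ M.D.Fil (p + 1) := Iff.rfl

lemma v_zero_of_mem_E {n p : ℕ} {e : M.D.G} (he : e ∈ M.E n p) : e 0 n ∈ M.Z n := by
  have h := he.2 0 (n + 1) (Nat.succ_pos p)
  simpa [Bicx.tot_apply] using h

/-- The global cocycle at the head of an element. -/
noncomputable def head (n p : ℕ) : M.E n p →+ M.Z n where
  toFun e := ⟨e.1 0 n, M.v_zero_of_mem_E e.2⟩
  map_zero' := rfl
  map_add' _ _ := rfl

/-- The filtration. -/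
noncomputable def G (n p : ℕ) : AddSubgroup ((M.HP n).obj (op ⊤)) :=
  ((M.cl n).comp (M.head n p)).range

lemma G_anti (n : ℕ) : Antitone (M.G n) := antitone_nat_of_succ_le fun p => by
  rintro _ ⟨e, rfl⟩
  exact ⟨⟨e.1, e.2.1, Bicx.fil_anti (Nat.le_succ _) e.2.2⟩, rfl⟩

lemma single_mem_E_zero {n : ℕ} (z : M.D.X 0 n) (hz : z ∈ M.Z n) :
    M.D.single 0 n z ∈ M.E n 0 := by
  refine ⟨fun i j h => Bicx.single_mem_W 0 n z i j (by omega), fun i j hi => ?_⟩
  obtain rfl : i = 0 := by omega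
  rcases j with _ | j
  · simp [Bicx.tot_apply]
  · by_cases hj : j = n
    · subst hj
      simpa [Bicx.tot_apply] using hz
    · simp [Bicx.tot_apply, Bicx.single_of_ne _ (fun e : 0 = 0 ∧ j = n => hj e.2)]

lemma G_zero (n : ℕ) : M.G n 0 = ⊤ := eq_top_iff.2 fun y _ => by
  obtain ⟨z, rfl⟩ := M.cls_surj n _ y
  exact ⟨⟨_, M.single_mem_E_zero z.1 z.2⟩,
    congrArg (M.cl n) (Subtype.ext (Bicx.single_self (D := M.D) 0 n z.1))⟩

lemma G_top (n : ℕ) : M.G n (n + 1) = ⊥ := eq_bot_iff.2 fun y hy => by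
  obtain ⟨e, rfl⟩ := hy
  have ht : M.D.tot e.1 = 0 :=
    Bicx.eq_zero_of_W_of_Fil (Bicx.tot_mem_W e.2.1) e.2.2 (by omega)
  refine AddSubgroup.mem_bot.2 ?_
  rcases n with _ | m
  · have : M.head 0 1 e = 0 := Subtype.ext (by
      show e.1 0 0 = 0
      rw [M.rowsAcyclic.zero_of e.2.1 ht]; rfl)
    exact (congrArg (M.cl 0) this).trans (map_zero _)
  · obtain ⟨b, -, hb⟩ := M.rowsAcyclic.exact (m + 2) m 0 e.1 (by omega) e.2.1
      (Bicx.filV_zero _) ht
    refine (M.cls_succ m _ _).2 ⟨b 0 m, ?_⟩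
    show _ = e.1 0 (m + 1)
    rw [← hb]
    simp [Bicx.tot_apply]

/-- The class of a global section vanishing on each member of the cover. -/
lemma G_one (n : ℕ) :
    M.G n 1 = ⨅ i, ((M.HP n).map (homOfLE (le_top : U i ≤ ⊤)).op).hom.ker := by
  refine le_antisymm (le_iInf fun a => ?_) fun y hy => ?_
  · rintro _ ⟨e, rfl⟩
    have hz := M.v_zero_of_mem_E e.2
    have hr : (M.P n).obj.map (homOfLE (le_top : U a ≤ ⊤)).op (e.1 0 n) ∈
        ((M.d n).hom.app (op (U a))).hom.ker := by
      show (M.d n).hom.app _ _ = 0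
      rw [NatTrans.naturality_apply]
      exact (congrArg _ hz).trans (map_zero _)
    refine (M.cls_res n _ _ _ _ ⟨_, hr⟩ rfl).trans ?_
    have he : U a ≤ inter U (fun _ : Fin 1 => a) := le_iInf fun _ => le_rfl
    have h1 : M.D.tot e.1 1 n (fun _ : Fin 1 => a) =
        (0 : (M.P n).obj.obj (op (inter U fun _ : Fin 1 => a))) :=
      congrFun (e.2.2 1 n (by omega)) (fun _ : Fin 1 => a)
    rcases n with _ | m
    · refine (congrArg _ (Subtype.ext ?_)).trans (map_zero _)
      have h2 : res (M.P 0).obj ((inter_le U (fun _ : Fin 1 => a) 0).trans (le_top : _ ≤ ⊤)) (e.1 0 0) = 0 := by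
        simp [Bicx.tot_apply, Sections.aug] at h1
        exact (add_zero _).symm.trans h1
      have h3 := congrArg (res (M.P 0).obj he) h2
      rw [map_zero, res_res] at h3
      exact h3
    · refine (M.cls_succ m _ _).2 ⟨res (M.P m).obj he (e.1 1 m (fun _ => a)), ?_⟩
      have h2 : res (M.P (m + 1)).obj ((inter_le U (fun _ : Fin 1 => a) 0).trans (le_top : _ ≤ ⊤)) (e.1 0 (m + 1)) -
          (M.d m).hom.app _ (e.1 1 m (fun _ : Fin 1 => a)) = 0 := by
        simpa [Bicx.tot_apply, Sections.aug, Complex.map_apply, Pi.zero_apply, sub_eq_add_neg] using h1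
      have h3 := congrArg (res (M.P (m + 1)).obj he) h2
      rw [map_zero, map_sub, res_res, sub_eq_zero] at h3
      exact (res_naturality (M.d m).hom he _).trans h3.symm
  · obtain ⟨z, rfl⟩ := M.cls_surj n _ y
    have hy' : ∀ a, (M.HP n).map (homOfLE (le_top : U a ≤ ⊤)).op (M.cl n z) = 0 :=
      fun a => AddSubgroup.mem_iInf.1 hy a
    have hk : ∀ i : Fin 1 → ι, (M.P n).obj.map
        (homOfLE ((inter_le U i 0).trans le_top : inter U i ≤ ⊤)).op z.1 ∈
          ((M.d n).hom.app (op (inter U i))).hom.ker := fun i => by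
      show (M.d n).hom.app _ _ = 0
      rw [NatTrans.naturality_apply]
      exact (congrArg _ z.2).trans (map_zero _)
    have hc : ∀ i : Fin 1 → ι, M.cls n (op (inter U i)) ⟨_, hk i⟩ = 0 := fun i => by
      rw [← M.cls_res n _ _ (homOfLE ((inter_le U i 0).trans le_top : inter U i ≤ ⊤)).op z ⟨_, hk i⟩ rfl]
      rw [show (homOfLE ((inter_le U i 0).trans le_top : inter U i ≤ ⊤)).op =
        (homOfLE (le_top : U (i 0) ≤ ⊤)).op ≫ (homOfLE (inter_le U i 0)).op from Subsingleton.elim _ _,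
        Functor.map_comp, ConcreteCategory.comp_apply, hy', map_zero]
    rcases n with _ | m
    · have h0 : z = 0 := Subtype.ext (Sections.aug_injective U (M.P 0) M.cov (by
        refine Eq.trans ?_ (map_zero _).symm
        funext i
        exact congrArg Subtype.val (M.cls_zero _ _ (hc i))))
      rw [h0, map_zero]
      exact zero_mem _
    · choose w hw using fun i => (M.cls_succ m _ _).1 (hc i)
      let e : M.D.G := M.D.single 0 (m + 1) z.1 + M.D.single 1 m w
      have he : e ∈ M.E (m + 1) 1 := by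
        refine ⟨add_mem (fun i j h => Bicx.single_mem_W (D := M.D) 0 (m + 1) z.1 i j (by omega))
          (fun i j h => Bicx.single_mem_W (D := M.D) 1 m w i j (by omega)), fun i j hi => ?_⟩
        have hW : M.D.tot e ∈ M.D.W (m + 1 + 1) := Bicx.tot_mem_W (add_mem
          (fun i j h => Bicx.single_mem_W (D := M.D) 0 (m + 1) z.1 i j (by omega))
          (fun i j h => Bicx.single_mem_W (D := M.D) 1 m w i j (by omega)))
        by_cases hij : i + j = m + 1 + 1
        · rcases i with _ | _ | i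
          · obtain rfl : j = m + 1 + 1 := by omega
            simp [e, Bicx.tot_apply, Bicx.single_of_ne]
            exact z.2
          · obtain rfl : j = m + 1 := by omega
            funext i
            simp [e, Bicx.tot_apply, Bicx.single_of_ne, Complex.map_apply, Sections.aug, hw i]
            exact add_neg_eq_zero.2 rfl
          · omega
        · exact hW i j hij
      refine ⟨⟨e, he⟩, congrArg (M.cl (m + 1)) (Subtype.ext ?_)⟩
      show e 0 (m + 1) = z.1
      simp [e, Bicx.single_of_ne]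

variable (q p : ℕ)

/-- Cochains of cocycles. -/
noncomputable def KC : AddSubgroup (Cochain U (M.P q).obj p) := (Complex.map (M.d q).hom p).ker

lemma mem_KC {c : Cochain U (M.P q).obj p} (hc : c ∈ M.KC q p) (i : Fin (p + 1) → ι) :
    c i ∈ ((M.d q).hom.app (op (inter U i))).hom.ker := congrFun hc i

/-- The pointwise class. -/
noncomputable def clC : M.KC q p →+ Cochain U (M.HP q) p where
  toFun c i := M.cls q _ ⟨c.1 i, M.mem_KC q p c.2 i⟩
  map_zero' := funext fun i => (M.cls q _).map_zero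
  map_add' c c' := funext fun i =>
    (M.cls q _).map_add ⟨c.1 i, M.mem_KC q p c.2 i⟩ ⟨c'.1 i, M.mem_KC q p c'.2 i⟩

lemma dC_mem_KC (c : M.KC q p) : dC U (M.P q).obj p c.1 ∈ M.KC q (p + 1) := by
  show Complex.map _ _ _ = 0
  rw [map_dC, show Complex.map (M.d q).hom p c.1 = 0 from c.2, map_zero]

lemma clC_dC (c : M.KC q p) :
    M.clC q (p + 1) ⟨_, M.dC_mem_KC q p c⟩ = dC U (M.HP q) p (M.clC q p c) := by
  funext i
  have hk : ∀ j : Fin (p + 2), res (M.P q).obj (inter_le_face U i j) (c.1 (i ∘ j.succAbove)) ∈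
      ((M.d q).hom.app (op (inter U i))).hom.ker := fun j => by
    show (M.d q).hom.app _ _ = 0
    rw [res_naturality, show (M.d q).hom.app _ (c.1 (i ∘ j.succAbove)) = 0 from
      M.mem_KC q p c.2 _, map_zero]
  have e : (⟨dC U (M.P q).obj p c.1 i, M.mem_KC q (p + 1) (M.dC_mem_KC q p c) i⟩ :
      ((M.d q).hom.app (op (inter U i))).hom.ker) =
      ∑ j : Fin (p + 2), (-1 : ℤ) ^ (j : ℕ) • ⟨_, hk j⟩ := Subtype.ext (by
    rw [AddSubgroup.val_finsetSum]
    rfl)
  refine (congrArg (M.cls q _) e).trans ?_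
  rw [map_sum]
  refine Finset.sum_congr rfl fun j _ => ?_
  rw [map_zsmul]
  exact congrArg _ (M.cls_res q _ _ (homOfLE (inter_le_face U i j)).op _ ⟨_, hk j⟩ rfl).symm

/-- Čech classes. -/
noncomputable def cc (Q : (Opens X)ᵒᵖ ⥤ AddCommGrpCat.{u}) :
    (dC U Q p).ker →+ CohB1.cechHTop U Q p :=
  ((cx U Q).liftCycles (A := AddCommGrpCat.of (dC U Q p).ker)
    (AddCommGrpCat.ofHom ((equiv U Q p).symm.toAddMonoidHom.comp (dC U Q p).ker.subtype))
    (p + 1) (by simp) (by
      ext c
      apply (equiv U Q (p + 1)).injective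
      rw [ConcreteCategory.comp_apply, equiv_d]
      erw [AddEquiv.apply_symm_apply, map_zero]
      exact c.2) ≫ (cx U Q).homologyπ p).hom

lemma exists_of_cc_eq_zero (Q : (Opens X)ᵒᵖ ⥤ AddCommGrpCat.{u}) (c : (dC U Q p).ker)
    (hc : cc p Q c = 0) :
    ∃ z : (cx U Q).X ((ComplexShape.up ℕ).prev p),
      equiv U Q p ((cx U Q).d ((ComplexShape.up ℕ).prev p) p z) = c.1 := by
  let K := cx U Q
  have hE : (ShortComplex.mk (K.toCycles ((ComplexShape.up ℕ).prev p) p) (K.homologyπ p)
      (K.toCycles_comp_homologyπ _ _)).Exact :=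
    ShortComplex.exact_of_g_is_cokernel _ (K.homologyIsCokernel _ p rfl)
  obtain ⟨z, hz⟩ := (ShortComplex.ab_exact_iff _).1 hE _ hc
  refine ⟨z, ?_⟩
  refine (congrArg (equiv U Q p) ?_).trans ((equiv U Q p).apply_symm_apply c.1)
  refine (ConcreteCategory.congr_hom (K.toCycles_i _ p) z).symm.trans ?_
  refine (congrArg (K.iCycles p) hz).trans ?_
  exact ConcreteCategory.congr_hom (HomologicalComplex.liftCycles_i (cx U Q) (AddCommGrpCat.ofHom
    ((equiv U Q p).symm.toAddMonoidHom.comp (dC U Q p).ker.subtype)) (p + 1) _ _) c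

lemma comp_mem {n : ℕ} (hn : n = p + q) {e : M.D.G} (he : e ∈ M.E n p) :
    M.D.tot e (p + 1) q ∈ M.KC q p := by
  have h := congrFun (congrFun (Bicx.tot_tot e) (p + 1)) (q + 1)
  rw [Bicx.tot_apply] at h
  have h0 : M.D.tot e p (q + 1) = 0 := he.2 p (q + 1) (Nat.lt_succ_self p)
  simpa [Bicx.hG_succ, h0, KC] using h

lemma clC_comp_mem {n : ℕ} (hn : n = p + q) {e : M.D.G} (he : e ∈ M.E n p) :
    M.clC q p ⟨_, M.comp_mem q p hn he⟩ ∈ (dC U (M.HP q) p).ker := by
  rw [AddMonoidHom.mem_ker, ← clC_dC]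
  funext i
  have h : M.D.tot (M.D.tot e) (p + 2) q i = (0 : (M.P q).obj.obj (op (inter U i))) :=
    congrFun (congrFun (congrFun (Bicx.tot_tot e) (p + 2)) q) i
  rcases q with _ | k
  · have h' : dC U (M.P 0).obj p (M.D.tot e (p + 1) 0) i = 0 := by
      simp [Bicx.tot_apply (M.D.tot e)] at h
      exact (add_zero _).symm.trans h
    exact (congrArg _ (Subtype.ext h' : (⟨_, M.mem_KC 0 (p + 1) (M.dC_mem_KC 0 p _) i⟩ :
      ((M.d 0).hom.app (op (inter U i))).hom.ker) = 0)).trans (M.cls 0 _).map_zero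
  · refine (M.cls_succ k _ _).2 ⟨-(((-1 : ℤ) ^ (p + 2)) • M.D.tot e (p + 2) k i), ?_⟩
    have h' : dC U (M.P (k + 1)).obj p (M.D.tot e (p + 1) (k + 1)) i +
        ((-1 : ℤ) ^ (p + 2)) • (M.d k).hom.app _ (M.D.tot e (p + 2) k i) = 0 := by
      simpa [Bicx.tot_apply (M.D.tot e), Complex.map_apply] using h
    rw [map_neg, map_zsmul]
    exact (neg_eq_iff_add_eq_zero.2 ((add_comm _ _).trans h'))

/-- The map to Čech cohomology. -/
noncomputable def θ {n : ℕ} (hn : n = p + q) : M.E n p →+ CohB1.cechHTop U (M.HP q) p :=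
  (cc p (M.HP q)).comp
    { toFun := fun e => ⟨M.clC q p ⟨_, M.comp_mem q p hn e.2⟩, M.clC_comp_mem q p hn e.2⟩
      map_zero' := Subtype.ext ((congrArg (M.clC q p) (Subtype.ext (by
        show M.D.tot 0 (p + 1) q = 0
        rw [map_zero]; rfl))).trans (map_zero _))
      map_add' := fun e e' => Subtype.ext ((congrArg (M.clC q p) (Subtype.ext (by
        show M.D.tot (e.1 + e'.1) (p + 1) q = M.D.tot e.1 (p + 1) q + M.D.tot e'.1 (p + 1) q
        rw [map_add]; rfl))).trans (map_add _ _ _)) }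

lemma cl_head_mem_of_θ {n : ℕ} (hn : n = p + q) (e : M.E n p) (he : M.θ q p hn e = 0) :
    M.cl n (M.head n p e) ∈ M.G n (p + 1) := by
  classical
  obtain ⟨z, hz⟩ := exists_of_cc_eq_zero p (M.HP q) _ he
  -- the correction by a lifted Čech cochain
  obtain ⟨b, hbW, hb0, hbF, hb⟩ : ∃ b : M.D.G, b ∈ M.D.W n ∧ b 0 n = 0 ∧
      M.D.tot b ∈ M.D.Fil (p + 1) ∧
      ∀ i, ∃ hk, M.cls q (op (inter U i)) ⟨(M.D.tot e.1 (p + 1) q - M.D.tot b (p + 1) q) i, hk⟩ = 0 := by
    rcases p with _ | p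
    · refine ⟨0, zero_mem _, rfl, (map_zero M.D.tot).symm ▸ zero_mem _, fun i => ?_⟩
      rw [(cx U (M.HP q)).shape _ _ (by simp)] at hz
      erw [map_zero] at hz
      refine ⟨?_, ?_⟩
      · rw [map_zero]
        exact M.mem_KC q 0 (sub_mem (M.comp_mem q 0 hn e.2) (zero_mem _)) i
      · refine (congrArg (M.cls q _) (Subtype.ext ?_)).trans (congrFun hz.symm i)
        show (M.D.tot e.1 1 q - M.D.tot 0 1 q) i = M.D.tot e.1 1 q i
        rw [map_zero]
        exact sub_zero _
    · revert z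
      rw [show (ComplexShape.up ℕ).prev (p + 1) = p from CochainComplex.prev_nat_succ p]
      intro z hz
      rw [equiv_d] at hz
      choose β hβ using fun i => M.cls_surj q (op (inter U i)) (equiv U (M.HP q) p z i)
      have hβK : (fun i => (β i).1) ∈ M.KC q p := funext fun i => (β i).2
      let β' : M.KC q p := ⟨fun i => (β i).1, hβK⟩
      have hcl : M.clC q p β' = equiv U (M.HP q) p z := funext fun i => hβ i
      refine ⟨M.D.single (p + 1) q β'.1,
        fun i j h => Bicx.single_mem_W (D := M.D) (p + 1) q β'.1 i j (by omega),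
        Bicx.single_of_ne _ (by omega), fun i j hi => ?_, fun i => ?_⟩
      · rcases Nat.lt_succ_iff_lt_or_eq.1 hi with hi | rfl
        · exact Bicx.tot_mem_Fil (Bicx.single_mem_Fil (D := M.D) (p + 1) q β'.1) i j hi
        · rcases j with _ | j
          · simp [Bicx.tot_apply, Bicx.single_of_ne]
          · by_cases hj : j = q
            · subst hj
              rw [Bicx.tot_single_v]
              show ((-1 : ℤ) ^ (p + 1)) • Complex.map (M.d j).hom p β'.1 = 0
              rw [show Complex.map (M.d j).hom p β'.1 = 0 from hβK, smul_zero]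
            · simp [Bicx.tot_apply, Bicx.single_of_ne, hj]
      · rw [Bicx.tot_single_h]
        have h1 : M.clC q (p + 1) (⟨_, M.comp_mem q (p + 1) hn e.2⟩ - ⟨_, M.dC_mem_KC q p β'⟩) = 0 := by
          rw [map_sub, clC_dC, hcl, hz]
          exact sub_self _
        exact ⟨M.mem_KC q (p + 1) (sub_mem (M.comp_mem q (p + 1) hn e.2) (M.dC_mem_KC q p β')) i,
          congrFun h1 i⟩
  choose hk hk0 using hb
  have hhead : (e.1 - b) 0 n = e.1 0 n := by
    show e.1 0 n - b 0 n = e.1 0 n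
    rw [hb0, sub_zero]
  rcases q with _ | k
  · have he1 : e.1 - b ∈ M.E n (p + 1) := by
      refine ⟨AddSubgroup.sub_mem (M.D.W n) e.2.1 hbW, fun i j hi => ?_⟩
      rw [map_sub]
      rcases Nat.lt_succ_iff_lt_or_eq.1 hi with hi | rfl
      · exact (AddSubgroup.sub_mem (M.D.Fil (p + 1)) e.2.2 hbF) i j hi
      · by_cases hj : j = 0
        · subst hj
          exact funext fun a => congrArg Subtype.val (M.cls_zero _ _ (hk0 a))
        · exact (AddSubgroup.sub_mem (M.D.W (n + 1)) (Bicx.tot_mem_W e.2.1) (Bicx.tot_mem_W hbW)) (p + 1) j (by omega)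
    exact ⟨⟨_, he1⟩, congrArg (M.cl n) (Subtype.ext hhead)⟩
  · choose α hα using fun i => (M.cls_succ k _ _).1 (hk0 i)
    let a : M.D.G := ((-1 : ℤ) ^ (p + 1)) • M.D.single (p + 1) k α
    have haW : a ∈ M.D.W n :=
      zsmul_mem (K := M.D.W n) (fun i j h => Bicx.single_mem_W (D := M.D) (p + 1) k α i j (by omega)) _
    have haF : a ∈ M.D.Fil (p + 1) := zsmul_mem (Bicx.single_mem_Fil (D := M.D) (p + 1) k α) _
    have he1 : e.1 - b - a ∈ M.E n (p + 1) := by
      refine ⟨AddSubgroup.sub_mem (M.D.W n) (AddSubgroup.sub_mem (M.D.W n) e.2.1 hbW) haW, fun i j hi => ?_⟩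
      rw [map_sub, map_sub]
      rcases Nat.lt_succ_iff_lt_or_eq.1 hi with hi | rfl
      · exact (AddSubgroup.sub_mem (M.D.Fil (p + 1)) (AddSubgroup.sub_mem (M.D.Fil (p + 1)) e.2.2 hbF) (Bicx.tot_mem_Fil haF)) i j hi
      · by_cases hj : j = k + 1
        · subst hj
          refine sub_eq_zero.2 ?_
          rw [map_zsmul]
          show _ = ((-1 : ℤ) ^ (p + 1)) • M.D.tot (M.D.single (p + 1) k α) (p + 1) (k + 1)
          rw [Bicx.tot_single_v, Bicx.Hom.smul_neg_one_pow_self]
          exact funext fun a => (hα a).symm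
        · exact sub_mem (H := M.D.W (n + 1)) (sub_mem (H := M.D.W (n + 1)) (Bicx.tot_mem_W e.2.1) (Bicx.tot_mem_W hbW))
            (Bicx.tot_mem_W haW) (p + 1) j (by omega)
    refine ⟨⟨_, he1⟩, congrArg (M.cl n) (Subtype.ext ?_)⟩
    show (e.1 - b - a) 0 n = e.1 0 n
    rw [Pi.sub_apply, Pi.sub_apply, hhead, haF 0 n (Nat.succ_pos p), sub_zero]

/-- A quotient of a group by a subgroup containing the kernel of a map is a subquotient of the target. -/
theorem isSubquotient_of_hom {A B N : Type u} [AddCommGroup A] [AddCommGroup B] [AddCommGroup N]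
    [Module ℤ N] (π : A →+ N) (hπ : Function.Surjective π) (θ : A →+ B)
    (h : θ.ker ≤ π.ker) : HTor.IsSubquotient ℤ N B := by
  refine ⟨((π.ker.map θ).toIntSubmodule), θ.range.toIntSubmodule, ?_, ?_⟩
  · rintro _ ⟨a, -, rfl⟩
    exact ⟨a, rfl⟩
  · let S' := θ.range.toIntSubmodule
    let S := Submodule.comap S'.subtype (π.ker.map θ).toIntSubmodule
    let ψ : A →+ S' ⧸ S := (Submodule.mkQ S).toAddMonoidHom.comp
      ((θ.codRestrict S'.toAddSubgroup fun a => ⟨a, rfl⟩))
    have hψ : Function.Surjective ψ := fun y => by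
      obtain ⟨⟨_, a, rfl⟩, rfl⟩ := Submodule.mkQ_surjective S y
      exact ⟨a, rfl⟩
    have hker : π.ker = ψ.ker := by
      ext a
      refine ⟨fun ha => (Submodule.Quotient.mk_eq_zero S).2 ⟨a, ha, rfl⟩, fun ha => ?_⟩
      obtain ⟨a', ha', e⟩ := (Submodule.Quotient.mk_eq_zero S).1 ha
      have h' : a - a' ∈ θ.ker := by rw [AddMonoidHom.mem_ker, map_sub]; exact sub_eq_zero.2 e.symm
      have := add_mem (h h') ha'
      rwa [sub_add_cancel] at this
    exact ⟨AddEquiv.toIntLinearEquiv (Compare.equivOfKerEq π ψ hπ hψ hker)⟩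

/-- The projection to a graded piece. -/
noncomputable def proj (n : ℕ) :
    M.E n p →+ HTor.grDesc (fun i => (M.G n i).toIntSubmodule) p :=
  (Submodule.mkQ _).toAddMonoidHom.comp
    (((M.cl n).comp (M.head n p)).codRestrict (M.G n p).toIntSubmodule.toAddSubgroup
      fun e => ⟨e, rfl⟩)

theorem isSubquotient {n : ℕ} (hn : n = p + q) :
    HTor.IsSubquotient ℤ (HTor.grDesc (fun i => (M.G n i).toIntSubmodule) p)
      (CohB1.cechHTop U (M.HP q) p) :=
  isSubquotient_of_hom (M.proj p n) (fun y => by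
      obtain ⟨⟨_, e, rfl⟩, rfl⟩ := Submodule.mkQ_surjective _ y
      exact ⟨e, rfl⟩)
    (M.θ q p hn) fun e he => (Submodule.Quotient.mk_eq_zero _).2 (M.cl_head_mem_of_θ q p hn e he)

end Model

end Groth.Agent.H30.CechHyper
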